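import Groth.Agent.CAlgGRing.Maximal
import Groth.Agent.FormalFibreQF.QuasiFinite
import Groth.Agent.NoethPts.Basic
import Mathlib.AlgebraicGeometry.Noetherian

/-!
# G-schemes
-/

set_option autoImplicit false
set_option backward.isDefEq.respectTransparency.types false
set_option linter.style.haveILetI false

universe u

open AlgebraicGeometry CategoryTheory IsLocalRing

namespace Groth.Agent.GScheme

/-- The completion map of a local ring is regular. -/
def RegCpl (T : Type u) [CommRing T] [IsLocalRing T] : Prop := CAlg.IsRegularHom T (EGA4.Cpl T)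

theorem regCpl_of_equiv {T T' : Type u} [CommRing T] [CommRing T'] [IsLocalRing T] [IsLocalRing T']
    [IsNoetherianRing T] (e : T ≃+* T') (h : RegCpl T) : RegCpl T' :=
  FormalFibreQF.isRegularHom_cpl_of_ringEquiv e h

theorem regCpl_of_atPrime {R S : Type u} [CommRing R] [IsNoetherianRing R] [CommRing S] [IsLocalRing S]
    [Algebra R S] (p : Ideal R) [p.IsPrime] [IsLocalization.AtPrime S p]
    (h : RegCpl (Localization.AtPrime p)) : RegCpl S :=
  haveI : IsNoetherianRing (Localization.AtPrime p) := IsLocalization.isNoetherianRing p.primeCompl _ inferInstance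
  regCpl_of_equiv (IsLocalization.algEquiv p.primeCompl (Localization.AtPrime p) S).toRingEquiv h

theorem regCpl_atPrime_of_le {R : Type u} [CommRing R] [IsNoetherianRing R] (p m : Ideal R) [p.IsPrime]
    [m.IsPrime] (hpm : p ≤ m) (h : RegCpl (Localization.AtPrime m)) : RegCpl (Localization.AtPrime p) := by
  let A := Localization.AtPrime m
  haveI : IsNoetherianRing A := IsLocalization.isNoetherianRing m.primeCompl _ inferInstance
  have hG : CAlg.IsGRing A := CAlgGRing.isGRing_of_maximal A fun n hn => by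
    haveI := hn
    have hn' := IsLocalRing.eq_maximalIdeal hn
    haveI : IsLocalization.AtPrime A n := by
      refine IsLocalization.self ?_
      intro a ha
      rw [IsUnit.mem_submonoid_iff]
      have : a ∉ IsLocalRing.maximalIdeal A := hn' ▸ ha
      simpa [IsLocalRing.mem_maximalIdeal] using this
    exact regCpl_of_equiv (IsLocalization.algEquiv n.primeCompl A (Localization.AtPrime n)).toRingEquiv h
  have hd : Disjoint (m.primeCompl : Set R) (p : Set R) := Set.disjoint_left.2 fun x hx hxp => hx (hpm hxp)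
  let q : Ideal A := p.map (algebraMap R A)
  haveI hq : q.IsPrime := IsLocalization.isPrime_of_isPrime_disjoint m.primeCompl A p ‹_› hd
  have hqp : q.comap (algebraMap R A) = p := IsLocalization.under_map_of_isPrime_disjoint m.primeCompl A ‹_› hd
  haveI : IsNoetherianRing (Localization.AtPrime q) := IsLocalization.isNoetherianRing q.primeCompl _ inferInstance
  haveI : IsLocalization.AtPrime (Localization.AtPrime q) p := by
    have := IsLocalization.isLocalization_atPrime_localization_atPrime (R := R) m.primeCompl q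
    convert this using 2
    exact hqp.symm
  exact regCpl_of_equiv (IsLocalization.algEquiv p.primeCompl (Localization.AtPrime q) (Localization.AtPrime p)).toRingEquiv
    (hG.2 q)

variable {X : Scheme.{u}}

/-- regularity of the completion map at a point, via an affine open. -/
theorem regCpl_stalk_iff [IsLocallyNoetherian X] {U : X.Opens} (hU : IsAffineOpen U) (x : X) (hx : x ∈ U) :
    RegCpl (X.presheaf.stalk x) ↔ RegCpl (Localization.AtPrime (hU.primeIdealOf ⟨x, hx⟩).asIdeal) := by
  letI : Algebra Γ(X, U) (X.presheaf.stalk x) := (X.presheaf.germ U x hx).hom.toAlgebra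
  haveI : IsLocalization.AtPrime (X.presheaf.stalk x) (hU.primeIdealOf ⟨x, hx⟩).asIdeal :=
    hU.isLocalization_stalk ⟨x, hx⟩
  haveI : IsNoetherianRing Γ(X, U) := IsLocallyNoetherian.component_noetherian ⟨U, hU⟩
  haveI : IsNoetherianRing (X.presheaf.stalk x) :=
    IsLocalization.isNoetherianRing (hU.primeIdealOf ⟨x, hx⟩).asIdeal.primeCompl _ inferInstance
  exact ⟨fun h => regCpl_of_equiv (IsLocalization.algEquiv (hU.primeIdealOf ⟨x, hx⟩).asIdeal.primeCompl
    (X.presheaf.stalk x) _).toRingEquiv h, fun h => regCpl_of_atPrime _ h⟩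

theorem isLocallyNoetherian_of_gRing
    (h : ∀ x : X, ∃ U : X.Opens, x ∈ U ∧ IsAffineOpen U ∧ CAlg.IsGRing Γ(X, U)) :
    IsLocallyNoetherian X := by
  choose U hxU hU hG using h
  have hcov : (⨆ x, (⟨U x, hU x⟩ : X.affineOpens).1) = ⊤ :=
    eq_top_iff.2 fun x _ => TopologicalSpace.Opens.mem_iSup.2 ⟨x, hxU x⟩
  exact isLocallyNoetherian_of_affine_cover hcov fun x => (hG x).1

theorem regCpl_stalk_of_gRing
    (h : ∀ x : X, ∃ U : X.Opens, x ∈ U ∧ IsAffineOpen U ∧ CAlg.IsGRing Γ(X, U)) (x : X) :
    RegCpl (X.presheaf.stalk x) := by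
  haveI := isLocallyNoetherian_of_gRing h
  obtain ⟨U, hxU, hU, hG⟩ := h x
  exact (regCpl_stalk_iff hU x hxU).2 (hG.2 _)

theorem isGRing_of_regCpl_stalk [IsLocallyNoetherian X] (h : ∀ x : X, RegCpl (X.presheaf.stalk x))
    (U : X.Opens) (hU : IsAffineOpen U) : CAlg.IsGRing Γ(X, U) := by
  haveI : IsNoetherianRing Γ(X, U) := IsLocallyNoetherian.component_noetherian ⟨U, hU⟩
  refine ⟨inferInstance, fun p hp => ?_⟩
  let q : Spec Γ(X, U) := ⟨p, hp⟩
  have hx : hU.fromSpec q ∈ U := by
    have := Set.mem_range_self (f := ⇑hU.fromSpec) q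
    rwa [hU.range_fromSpec] at this
  have hreg := (regCpl_stalk_iff hU _ hx).1 (h _)
  haveI : IsNoetherianRing (Localization.AtPrime (hU.primeIdealOf ⟨_, hx⟩).asIdeal) :=
    IsLocalization.isNoetherianRing (hU.primeIdealOf ⟨_, hx⟩).asIdeal.primeCompl _ inferInstance
  have e : hU.primeIdealOf ⟨_, hx⟩ = q :=
    hU.fromSpec.isOpenEmbedding.injective (hU.fromSpec_primeIdealOf ⟨_, hx⟩)
  have e' : (hU.primeIdealOf ⟨_, hx⟩).asIdeal = p := congrArg PrimeSpectrum.asIdeal e
  haveI : IsLocalization.AtPrime (Localization.AtPrime p) (hU.primeIdealOf ⟨_, hx⟩).asIdeal := by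
    simp only [e']
    infer_instance
  exact regCpl_of_atPrime (hU.primeIdealOf ⟨_, hx⟩).asIdeal hreg

theorem exists_closedPoint_specializes [IsLocallyNoetherian X] (x : X) :
    ∃ y : X, x ⤳ y ∧ IsClosed ({y} : Set X) := by
  obtain ⟨z, hz, hzl⟩ := NoethPts.exists_isLocallyClosed_singleton
    (isClosed_closure (s := ({x} : Set X))).isLocallyClosed ⟨x, subset_closure rfl⟩
  by_cases hc : IsClosed ({z} : Set X)
  · exact ⟨z, specializes_iff_mem_closure.2 hz, hc⟩
  obtain ⟨y, hy, hne⟩ : ∃ y ∈ closure ({z} : Set X), y ≠ z := by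
    by_contra hcon
    push Not at hcon
    exact hc (closure_subset_iff_isClosed.1 fun w hw => hcon w hw)
  exact ⟨y, (specializes_iff_mem_closure.2 hz).trans (specializes_iff_mem_closure.2 hy),
    NoethPts.isClosed_singleton_of_specializes hzl (specializes_iff_mem_closure.2 hy) hne⟩

theorem regCpl_stalk_of_closedPoints [IsLocallyNoetherian X]
    (h : ∀ x : X, IsClosed ({x} : Set X) → RegCpl (X.presheaf.stalk x)) (x : X) :
    RegCpl (X.presheaf.stalk x) := by
  obtain ⟨y, hxy, hy⟩ := exists_closedPoint_specializes x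
  obtain ⟨U, hU, hyU, -⟩ := exists_isAffineOpen_mem_and_subset (x := y) (U := (⊤ : X.Opens)) trivial
  have hxU : x ∈ U := hxy.mem_open U.2 hyU
  haveI : IsNoetherianRing Γ(X, U) := IsLocallyNoetherian.component_noetherian ⟨U, hU⟩
  refine (regCpl_stalk_iff hU x hxU).2 (regCpl_atPrime_of_le _ (hU.primeIdealOf ⟨y, hyU⟩).asIdeal ?_
    ((regCpl_stalk_iff hU y hyU).1 (h y hy)))
  have hsp : hU.primeIdealOf ⟨x, hxU⟩ ⤳ hU.primeIdealOf ⟨y, hyU⟩ := by
    refine (hU.fromSpec.isOpenEmbedding.isInducing.specializes_iff).1 ?_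
    rw [hU.fromSpec_primeIdealOf, hU.fromSpec_primeIdealOf]
    exact hxy
  exact (PrimeSpectrum.le_iff_specializes _ _).2 hsp

end Groth.Agent.GScheme
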